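import Mathlib

set_option autoImplicit false

namespace Cfsg.Agent.FpC

open Subgroup
open scoped commutatorElement

section basic
variable {H : Type*} [Group H]

/-- `[h, x]` -/
def L (x : MulAut H) (h : H) : Subgroup H := closure {c : H | ∃ i : ℕ, c = h⁻¹ * (x ^ i) h}

/-- fixed points -/
def Fx (x : MulAut H) : Subgroup H := (x : H →* H).eqLocus (MonoidHom.id H)

/-- `[K, x]` -/
def Cm (x : MulAut H) (K : Subgroup H) : Subgroup H := ⨆ h ∈ K, L x h

/-- the right-hand side -/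
def D (x : MulAut H) : Subgroup H := ⨆ h : H, L x h ⊓ Fx x

/-- invariance -/
def Stb (x : MulAut H) (K : Subgroup H) : Prop := ∀ k ∈ K, x k ∈ K

variable {x : MulAut H}

theorem mem_Fx {c : H} : c ∈ Fx x ↔ x c = c := Iff.rfl

theorem pow_succ_app (i : ℕ) (h : H) : (x ^ (i + 1)) h = x ((x ^ i) h) := by
  rw [pow_succ']; rfl

theorem pow_succ_app' (i : ℕ) (h : H) : (x ^ (i + 1)) h = (x ^ i) (x h) := by
  rw [pow_succ]; rfl

theorem pow_fix {c : H} (hc : x c = c) (i : ℕ) : (x ^ i) c = c := by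
  induction i with
  | zero => rfl
  | succ i ih => rw [pow_succ_app, ih, hc]

theorem Stb.pow {K : Subgroup H} (hK : Stb x K) (i : ℕ) {k : H} (hk : k ∈ K) : (x ^ i) k ∈ K := by
  induction i with
  | zero => exact hk
  | succ i ih => rw [pow_succ_app]; exact hK _ ih

theorem gen_mem (h : H) (i : ℕ) : h⁻¹ * (x ^ i) h ∈ L x h := subset_closure ⟨i, rfl⟩

theorem gen_mem1 (h : H) : h⁻¹ * x h ∈ L x h := by simpa using gen_mem (x := x) h 1

theorem L_le {h : H} {K : Subgroup H} (hK : ∀ i : ℕ, h⁻¹ * (x ^ i) h ∈ K) : L x h ≤ K := by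
  refine (closure_le _).2 ?_
  rintro c ⟨i, rfl⟩
  exact hK i

theorem stb_iff {K : Subgroup H} : Stb x K ↔ K ≤ K.comap (x : H →* H) := Iff.rfl

theorem stb_L (h : H) : Stb x (L x h) := by
  refine stb_iff.2 (L_le fun i => ?_)
  change x (h⁻¹ * (x ^ i) h) ∈ L x h
  have : x (h⁻¹ * (x ^ i) h) = (h⁻¹ * x h)⁻¹ * (h⁻¹ * (x ^ (i + 1)) h) := by
    rw [map_mul, map_inv, pow_succ_app]; group
  rw [this]
  exact mul_mem (inv_mem (gen_mem1 h)) (gen_mem h _)

theorem L_le_of_mem {K : Subgroup H} (hK : Stb x K) {h : H} (hh : h ∈ K) : L x h ≤ K :=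
  L_le fun i => mul_mem (inv_mem hh) (hK.pow i hh)

theorem L_le_Cm {K : Subgroup H} {h : H} (hh : h ∈ K) : L x h ≤ Cm x K :=
  le_iSup₂_of_le (f := fun h (_ : h ∈ K) => L x h) h hh le_rfl

theorem Cm_le {K M : Subgroup H} (h : ∀ k ∈ K, L x k ≤ M) : Cm x K ≤ M := iSup₂_le h

theorem Cm_le_self {K : Subgroup H} (hK : Stb x K) : Cm x K ≤ K :=
  Cm_le fun _ hk => L_le_of_mem hK hk

theorem Cm_mono {K M : Subgroup H} (h : K ≤ M) : Cm x K ≤ Cm x M :=
  Cm_le fun _ hk => L_le_Cm (h hk)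

theorem stb_Cm (K : Subgroup H) : Stb x (Cm x K) :=
  stb_iff.2 (Cm_le fun k hk c hc => L_le_Cm hk (stb_L k c hc))

theorem Stb.sup {K M : Subgroup H} (hK : Stb x K) (hM : Stb x M) : Stb x (K ⊔ M) :=
  stb_iff.2 (sup_le (fun k hk => (le_sup_left : K ≤ K ⊔ M) (hK k hk))
    (fun k hk => (le_sup_right : M ≤ K ⊔ M) (hM k hk)))

theorem Stb.inf {K M : Subgroup H} (hK : Stb x K) (hM : Stb x M) : Stb x (K ⊓ M) :=
  fun k hk => ⟨hK k hk.1, hM k hk.2⟩

theorem stb_of_le_Fx {K : Subgroup H} (hK : K ≤ Fx x) : Stb x K := fun k hk => by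
  rw [mem_Fx.1 (hK hk)]; exact hk

theorem stb_top : Stb x ⊤ := fun _ _ => mem_top _

theorem Stb.commutator {K M : Subgroup H} (hK : Stb x K) (hM : Stb x M) : Stb x ⁅K, M⁆ := by
  refine stb_iff.2 (commutator_le.2 fun a ha b hb => ?_)
  change x ⁅a, b⁆ ∈ ⁅K, M⁆
  rw [map_commutatorElement]
  exact commutator_mem_commutator (hK a ha) (hM b hb)

theorem D_le_Fx : D x ≤ Fx x := iSup_le fun _ => inf_le_right

theorem L_inf_le_D (h : H) : L x h ⊓ Fx x ≤ D x :=
  le_iSup (f := fun h => L x h ⊓ Fx x) h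

/-- `[K,x]` is normal in `K`. -/
theorem conj_mem_Cm {K : Subgroup H} {k c : H} (hk : k ∈ K) (hc : c ∈ Cm x K) :
    k * c * k⁻¹ ∈ Cm x K := by
  have : Cm x K ≤ (Cm x K).comap (MulAut.conj k : H →* H) := by
    refine Cm_le fun h hh => L_le fun i => ?_
    change k * (h⁻¹ * (x ^ i) h) * k⁻¹ ∈ Cm x K
    have e : k * (h⁻¹ * (x ^ i) h) * k⁻¹ =
        ((h * k⁻¹)⁻¹ * (x ^ i) (h * k⁻¹)) * ((k⁻¹)⁻¹ * (x ^ i) k⁻¹)⁻¹ := by
      rw [map_mul]; group
    rw [e]
    exact mul_mem (L_le_Cm (mul_mem hh (inv_mem hk)) (gen_mem _ i))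
      (inv_mem (L_le_Cm (inv_mem hk) (gen_mem _ i)))
  exact this hc

section transfer
variable {H' : Type*} [Group H'] {y : MulAut H'} (f : H →* H') (hf : ∀ h, f (x h) = y (f h))
include hf

theorem map_pow_app (i : ℕ) (h : H) : f ((x ^ i) h) = (y ^ i) (f h) := by
  induction i with
  | zero => rfl
  | succ i ih => rw [pow_succ_app, pow_succ_app, hf, ih]

theorem map_L (h : H) : (L x h).map f = L y (f h) := by
  unfold L
  rw [MonoidHom.map_closure]
  congr 1
  ext c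
  constructor
  · rintro ⟨_, ⟨i, rfl⟩, rfl⟩
    exact ⟨i, by rw [map_mul, map_inv, map_pow_app f hf]⟩
  · rintro ⟨i, rfl⟩
    exact ⟨_, ⟨i, rfl⟩, by rw [map_mul, map_inv, map_pow_app f hf]⟩

theorem map_D : (D x).map f ≤ D y := by
  refine map_le_iff_le_comap.2 (iSup_le fun h c hc => ?_)
  refine L_inf_le_D (f h) ⟨?_, ?_⟩
  · rw [← map_L f hf]; exact mem_map_of_mem f hc.1
  · change y (f c) = f c
    rw [← hf, mem_Fx.1 hc.2]

theorem map_Cm (K : Subgroup H) : (Cm x K).map f = Cm y (K.map f) := by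
  apply le_antisymm
  · refine map_le_iff_le_comap.2 (Cm_le fun k hk => map_le_iff_le_comap.1 ?_)
    rw [map_L f hf]
    exact L_le_Cm (mem_map_of_mem f hk)
  · refine Cm_le ?_
    rintro _ ⟨k, hk, rfl⟩
    rw [← map_L f hf]
    exact map_mono (L_le_Cm hk)

end transfer

theorem conj_mem_D {c d : H} (hc : c ∈ Fx x) (hd : d ∈ D x) : c * d * c⁻¹ ∈ D x := by
  have := map_D (x := x) (y := x) (MulAut.conj c : H →* H) (fun h => by
    change c * x h * c⁻¹ = x (c * h * c⁻¹)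
    rw [map_mul, map_mul, map_inv, mem_Fx.1 hc])
  exact this (mem_map_of_mem _ hd)

theorem conj_mem_Cm_fix {K : Subgroup H} [hK : K.Normal] {c d : H} (hc : c ∈ Fx x)
    (hd : d ∈ Cm x K) : c * d * c⁻¹ ∈ Cm x K := by
  have := map_Cm (x := x) (y := x) (MulAut.conj c : H →* H) (fun h => by
    change c * x h * c⁻¹ = x (c * h * c⁻¹)
    rw [map_mul, map_mul, map_inv, mem_Fx.1 hc]) K
  have h2 : Cm x (K.map (MulAut.conj c : H →* H)) ≤ Cm x K := by
    refine Cm_mono ?_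
    rintro _ ⟨k, hk, rfl⟩
    exact hK.conj_mem k hk c
  exact h2 (this ▸ mem_map_of_mem _ hd)

/-- In an abelian invariant subgroup each element of `[A,x]` is a single commutator. -/
theorem exists_single {A : Subgroup H} (hA : Stb x A) (hc : ∀ a ∈ A, ∀ b ∈ A, a * b = b * a)
    {c : H} (h : c ∈ Cm x A) : ∃ a ∈ A, c = a⁻¹ * x a := by
  let T : Subgroup H :=
    { carrier := {c | ∃ a ∈ A, c = a⁻¹ * x a}
      one_mem' := ⟨1, one_mem _, by simp⟩
      mul_mem' := by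
        rintro _ _ ⟨a, ha, rfl⟩ ⟨b, hb, rfl⟩
        refine ⟨a * b, mul_mem ha hb, ?_⟩
        rw [map_mul, mul_inv_rev, hc _ (inv_mem hb) _ (inv_mem ha)]
        have := hc _ (hA a ha) _ (inv_mem hb)
        calc a⁻¹ * x a * (b⁻¹ * x b) = a⁻¹ * (x a * b⁻¹) * x b := by group
          _ = a⁻¹ * b⁻¹ * (x a * x b) := by rw [this]; group
      inv_mem' := by
        rintro _ ⟨a, ha, rfl⟩
        refine ⟨a⁻¹, inv_mem ha, ?_⟩
        rw [map_inv, mul_inv_rev, inv_inv]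
        exact hc _ (inv_mem (hA a ha)) _ ha }
  have : Cm x A ≤ T := by
    refine Cm_le fun a ha => L_le fun i => ?_
    induction i with
    | zero => simp
    | succ i ih =>
      have e : a⁻¹ * (x ^ (i + 1)) a = (a⁻¹ * (x ^ i) a) * (((x ^ i) a)⁻¹ * x ((x ^ i) a)) := by
        rw [pow_succ_app]; group
      rw [e]
      exact T.mul_mem ih ⟨_, hA.pow i ha, rfl⟩
  exact this h

theorem pow_mem_of_one {Z : Subgroup H} {y : MulAut H} (h : ∀ w, w⁻¹ * y w ∈ Z) (i : ℕ) (w : H) :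
    w⁻¹ * (y ^ i) w ∈ Z := by
  induction i with
  | zero => simp
  | succ i ih =>
    have e : w⁻¹ * (y ^ (i + 1)) w = (w⁻¹ * (y ^ i) w) * (((y ^ i) w)⁻¹ * y ((y ^ i) w)) := by
      rw [pow_succ_app]; group
    rw [e]
    exact mul_mem ih (h _)

end basic

section coprime
variable {H : Type*} [Group H] [Finite H] {p : ℕ} [hp : Fact p.Prime] {x : MulAut H}

theorem exists_fix_coset (hcop : (Nat.card H).Coprime p) (hx : x ^ p = 1) {N : Subgroup H}
    (hN : Stb x N) {h : H} (hh : h⁻¹ * x h ∈ N) : ∃ n ∈ N, x (h * n) = h * n := by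
  classical
  have hinv : ∀ k, x k ∈ N → k ∈ N := fun k hk => by
    have := hN.pow (p - 1) hk
    rwa [← pow_succ_app', Nat.sub_add_cancel hp.out.one_le, hx] at this
  let σ : Equiv.Perm {y : H // h⁻¹ * y ∈ N} :=
    Equiv.Perm.subtypePerm (x : Equiv.Perm H) (fun y => by
      change h⁻¹ * x y ∈ N ↔ h⁻¹ * y ∈ N
      have e : h⁻¹ * x y = (h⁻¹ * x h) * x (h⁻¹ * y) := by rw [map_mul, map_inv]; group
      rw [e]
      constructor
      · intro h1
        exact hinv _ ((mul_mem_cancel_left hh).1 h1)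
      · intro h1
        exact mul_mem hh (hN _ h1))
  have hσ : ∀ i : ℕ, ∀ y, ((σ ^ i) y : H) = (x ^ i) y := by
    intro i y
    induction i with
    | zero => rfl
    | succ i ih => rw [pow_succ_app, pow_succ', Equiv.Perm.mul_apply, ← ih]; rfl
  let e : {y : H // h⁻¹ * y ∈ N} ≃ N :=
    { toFun := fun y => ⟨h⁻¹ * y, y.2⟩
      invFun := fun n => ⟨h * n, by simp⟩
      left_inv := fun y => by simp
      right_inv := fun n => by simp }
  have := Fintype.ofFinite {y : H // h⁻¹ * y ∈ N}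
  have hnd : ¬ p ∣ Fintype.card {y : H // h⁻¹ * y ∈ N} := by
    rw [← Nat.card_eq_fintype_card, Nat.card_congr e]
    intro hd
    have := Nat.Coprime.eq_one_of_dvd hcop.symm (hd.trans (card_subgroup_dvd_card N))
    exact hp.out.ne_one this
  obtain ⟨a, ha⟩ := Equiv.Perm.exists_fixed_point_of_prime (n := 1) hnd (σ := σ) (by
    ext y
    rw [pow_one, hσ, hx]; rfl)
  refine ⟨h⁻¹ * a, a.2, ?_⟩
  have := hσ 1 a
  rw [pow_one, pow_one, ha] at this
  rw [mul_inv_cancel_left, ← this]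

theorem decomp (hcop : (Nat.card H).Coprime p) (hx : x ^ p = 1) {K : Subgroup H}
    (hK : Stb x K) {k : H} (hk : k ∈ K) : ∃ c ∈ K ⊓ Fx x, ∃ n ∈ Cm x K, k = c * n := by
  obtain ⟨n, hn, hfix⟩ := exists_fix_coset hcop hx (stb_Cm (x := x) K) (L_le_Cm hk (gen_mem1 k))
  exact ⟨k * n, ⟨mul_mem hk (Cm_le_self hK hn), hfix⟩, n⁻¹, inv_mem hn, by group⟩

theorem L_le_Cm_L (hcop : (Nat.card H).Coprime p) (hx : x ^ p = 1) (h : H) :
    L x h ≤ Cm x (L x h) := by
  obtain ⟨n, hn, hfix⟩ := exists_fix_coset hcop hx (stb_L (x := x) h) (gen_mem1 h)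
  refine L_le fun i => ?_
  have e : h⁻¹ * (x ^ i) h = (n⁻¹)⁻¹ * (x ^ i) n⁻¹ := by
    have h1 := pow_fix hfix i
    rw [map_mul] at h1
    rw [map_inv]
    calc h⁻¹ * (x ^ i) h = h⁻¹ * ((x ^ i) h * (x ^ i) n) * ((x ^ i) n)⁻¹ := by group
      _ = _ := by rw [h1]; group
  rw [e]
  exact L_le_Cm (inv_mem hn) (gen_mem _ i)

theorem Cm_le_Cm_Cm (hcop : (Nat.card H).Coprime p) (hx : x ^ p = 1) (K : Subgroup H) :
    Cm x K ≤ Cm x (Cm x K) :=
  Cm_le fun k hk => (L_le_Cm_L hcop hx k).trans (Cm_mono (L_le_Cm hk))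

omit [Finite H] hp in
theorem eq_one_of_pow (hcop : (Nat.card H).Coprime p) {n : H} (hn : n ^ p = 1) : n = 1 := by
  have h1 := orderOf_dvd_of_pow_eq_one hn
  have h2 := orderOf_dvd_natCard n
  exact orderOf_eq_one_iff.1 (Nat.eq_one_of_dvd_coprimes hcop h2 h1)

theorem abel_inf (hcop : (Nat.card H).Coprime p) (hx : x ^ p = 1) {A : Subgroup H} (hA : Stb x A)
    (hc : ∀ a ∈ A, ∀ b ∈ A, a * b = b * a) {n : H} (h : n ∈ Cm x A) (hn : n ∈ Fx x) : n = 1 := by
  obtain ⟨a, ha, e⟩ := exists_single hA hc h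
  have h1 : x a = a * n := by rw [e]; group
  have h2 : ∀ i : ℕ, (x ^ i) a = a * n ^ i := by
    intro i
    induction i with
    | zero => simp
    | succ i ih => rw [pow_succ_app, ih, map_mul, map_pow, mem_Fx.1 hn, h1, pow_succ']; group
  have h3 := h2 p
  rw [hx] at h3
  apply eq_one_of_pow hcop
  have : a * n ^ p = a * 1 := by rw [← h3]; simp
  exact mul_left_cancel this

theorem exists_sylow (hcop : (Nat.card H).Coprime p) (hx : x ^ p = 1) (r : ℕ) [Fact r.Prime] :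
    ∃ R : Sylow r H, Stb x (R : Subgroup H) := by
  classical
  let σ : Equiv.Perm (Sylow r H) := MulAction.toPermHom (MulAut H) (Sylow r H) x
  have := Fintype.ofFinite (Sylow r H)
  obtain ⟨R0⟩ : Nonempty (Sylow r H) := inferInstance
  have hnd : ¬ p ∣ Fintype.card (Sylow r H) := by
    rw [← Nat.card_eq_fintype_card]
    intro hd
    have := Nat.Coprime.eq_one_of_dvd hcop.symm
      (hd.trans ((R0.card_dvd_index).trans (index_dvd_card _)))
    exact hp.out.ne_one this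
  obtain ⟨R, hR⟩ := Equiv.Perm.exists_fixed_point_of_prime (n := 1) hnd (σ := σ) (by
    rw [pow_one, ← map_pow, hx, map_one])
  refine ⟨R, fun k hk => ?_⟩
  have h1 : x • R = R := hR
  rw [← h1, Sylow.pointwise_smul_def]
  exact Subgroup.smul_mem_pointwise_smul k x _ hk

end coprime

end Cfsg.Agent.FpC
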