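import Cfsg.Agent.FpC.A

set_option autoImplicit false
set_option linter.unusedSectionVars false

namespace Cfsg.Agent.FpC

open Subgroup
open scoped commutatorElement

section gen
variable {H : Type*} [Group H]

theorem mem_sup_iff {A B : Subgroup H} (h : ∀ a ∈ A, ∀ b ∈ B, a * b * a⁻¹ ∈ B) {g : H} :
    g ∈ A ⊔ B ↔ ∃ a ∈ A, ∃ b ∈ B, g = a * b := by
  constructor
  · let T : Subgroup H :=
      { carrier := {g | ∃ a ∈ A, ∃ b ∈ B, g = a * b}
        one_mem' := ⟨1, one_mem _, 1, one_mem _, by simp⟩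
        mul_mem' := by
          rintro _ _ ⟨a, ha, b, hb, rfl⟩ ⟨a', ha', b', hb', rfl⟩
          refine ⟨a * a', mul_mem ha ha', a'⁻¹ * b * a'⁻¹⁻¹ * b',
            mul_mem (h _ (inv_mem ha') _ hb) hb', by group⟩
        inv_mem' := by
          rintro _ ⟨a, ha, b, hb, rfl⟩
          exact ⟨a⁻¹, inv_mem ha, a * b⁻¹ * a⁻¹, h _ ha _ (inv_mem hb), by group⟩ }
    have : A ⊔ B ≤ T := sup_le (fun a ha => ⟨a, ha, 1, one_mem _, by simp⟩)
      (fun b hb => ⟨1, one_mem _, b, hb, by simp⟩)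
    exact fun hg => this hg
  · rintro ⟨a, ha, b, hb, rfl⟩
    exact mul_mem ((le_sup_left : A ≤ A ⊔ B) ha) ((le_sup_right : B ≤ A ⊔ B) hb)

theorem normal_of_gen {A B N : Subgroup H} (hAB : A ⊔ B = ⊤)
    (hA : ∀ a ∈ A, ∀ n ∈ N, a * n * a⁻¹ ∈ N) (hB : ∀ a ∈ B, ∀ n ∈ N, a * n * a⁻¹ ∈ N) :
    N.Normal := by
  have key : ∀ C : Subgroup H, (∀ a ∈ C, ∀ n ∈ N, a * n * a⁻¹ ∈ N) →
      C ≤ normalizer (N : Set H) := by
    intro C hC a ha
    rw [mem_normalizer_iff]
    intro n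
    constructor
    · exact hC a ha n
    · intro hn
      have := hC _ (inv_mem ha) _ hn
      simpa [mul_assoc] using this
  rw [← normalizer_eq_top_iff, eq_top_iff, ← hAB]
  exact sup_le (key A hA) (key B hB)

theorem nil_bot [Group.IsNilpotent H] {N : Subgroup H} (h : N ≤ ⁅N, ⊤⁆) : N = ⊥ := by
  obtain ⟨n, hn⟩ := (Subgroup.nilpotent_iff_lowerCentralSeries (G := H)).1 inferInstance
  have : ∀ k, N ≤ (⊤ : Subgroup H).lowerCentralSeries k := by
    intro k
    induction k with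
    | zero => exact le_top
    | succ k ih => exact h.trans (commutator_mono ih le_rfl)
  exact le_bot_iff.1 (hn ▸ this n)

theorem nil_le [Group.IsNilpotent H] {N V : Subgroup H} [V.Normal] (h : N ≤ ⁅N, ⊤⁆ ⊔ V) :
    N ≤ V := by
  have h1 : N.map (QuotientGroup.mk' V) = ⊥ := by
    apply nil_bot
    refine (map_mono h).trans ?_
    rw [Subgroup.map_sup, QuotientGroup.map_mk'_self, sup_bot_eq, map_commutator]
    exact commutator_mono le_rfl le_top
  rwa [Subgroup.map_eq_bot_iff, QuotientGroup.ker_mk'] at h1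

end gen

section avg
variable {V R : Type*} [CommGroup V] [Group R] [Fintype R] (ρ : R →* MulAut V)

theorem tr_fixed (w : V) (b : R) : ρ b (∏ a : R, ρ a w) = ∏ a : R, ρ a w := by
  rw [map_prod]
  refine Fintype.prod_equiv (Equiv.mulLeft b) _ _ fun a => ?_
  simp [map_mul]

theorem tr_comm (w : V) (b : R) : ∏ a : R, ρ a (w * (ρ b w)⁻¹) = 1 := by
  simp only [map_mul, map_inv, Finset.prod_mul_distrib, Finset.prod_inv_distrib]
  have : ∏ a : R, ρ a (ρ b w) = ∏ a : R, ρ a w :=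
    Fintype.prod_equiv (Equiv.mulRight b) _ _ fun a => by simp [map_mul]
  rw [this, mul_inv_cancel]

end avg

theorem avg {V R : Type*} [CommGroup V] [CommGroup R] [Fintype R] (ρ : R →* MulAut V)
    (X : V →* V) (y : R →* R) (hX : ∀ a v, X (ρ a v) = ρ (y a) (X v))
    (htr : ∀ w, (∀ a, ρ a w = w) → w = 1)
    (b1 : Function.Bijective fun n => n * y n⁻¹)
    (b2 : Function.Bijective fun n => n * y (y n⁻¹)) (k m' : R)
    (hid : ∀ v, v⁻¹ * ρ k (X (X v)) =
      (X v)⁻¹ * ρ m' (X (X v)) * (ρ m' v)⁻¹ * ρ k (X v)) (v : V) :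
    (v⁻¹ * ρ m' v) ^ Fintype.card R = 1 := by
  have t0 : ∀ w, ∏ a : R, ρ a w = 1 := fun w => htr _ (tr_fixed ρ w)
  have t1 : ∀ w, ∏ n : R, ρ (n * y n⁻¹) w = 1 := fun w => by
    rw [← t0 w]
    exact Fintype.prod_bijective _ b1 _ _ fun _ => rfl
  have t2 : ∀ w, ∏ n : R, ρ (n * y (y n⁻¹)) w = 1 := fun w => by
    rw [← t0 w]
    exact Fintype.prod_bijective _ b2 _ _ fun _ => rfl
  have sw : ∀ a b : R, ∀ w, ρ a (ρ b w) = ρ b (ρ a w) := fun a b w => by
    rw [← MulAut.mul_apply, ← map_mul, mul_comm, map_mul, MulAut.mul_apply]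
  have mu : ∀ a b : R, ∀ w, ρ a (ρ b w) = ρ (a * b) w := fun a b w => by
    rw [map_mul, MulAut.mul_apply]
  have key : ∀ n : R, v⁻¹ * ρ (n * y (y n⁻¹)) (ρ k (X (X v))) =
      (ρ (n * y n⁻¹) (X v))⁻¹ * ρ (n * y (y n⁻¹)) (ρ m' (X (X v))) * (ρ m' v)⁻¹ *
        ρ (n * y n⁻¹) (ρ k (X v)) := by
    intro n
    have := congrArg (ρ n) (hid (ρ n⁻¹ v))
    simp only [map_mul, map_inv (ρ n), hX] at this
    rw [mu n n⁻¹, mul_inv_cancel, map_one, MulAut.one_apply, sw k, sw m', sw m', sw k,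
      mu n n⁻¹, mul_inv_cancel, map_one, MulAut.one_apply, mu n, mu n, mu n, mu n] at this
    exact this
  have := Finset.prod_congr (rfl : (Finset.univ : Finset R) = Finset.univ) fun n _ => key n
  simp only [Finset.prod_mul_distrib, Finset.prod_inv_distrib, t1, t2, Finset.prod_const,
    Finset.card_univ, inv_one, one_mul, mul_one] at this
  rw [mul_pow, inv_pow, inv_inj.1 this, inv_mul_cancel]

end Cfsg.Agent.FpC
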