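import Cfsg.Agent.FpC.B

set_option autoImplicit false
set_option linter.unusedSectionVars false

namespace Cfsg.Agent.FpC

open Subgroup
open scoped commutatorElement

/-- The hypotheses satisfied by a minimal counterexample. -/
structure Ctx {H : Type*} [Group H] (p : ℕ) (x : MulAut H) : Prop where
  hp2 : p ≠ 2
  cop : (Nat.card H).Coprime p
  hx : x ^ p = 1
  top : Cm x ⊤ = ⊤
  ihs : ∀ K, Stb x K → K ≠ ⊤ → Cm x K ⊓ Fx x ≤ D x
  ihq : ∀ V : Subgroup H, V.Normal → Stb x V → V ≠ ⊥ → ∀ c ∈ Fx x, ∃ d ∈ D x, ∃ v ∈ V ⊓ Fx x,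
    c = d * v
  nle : ¬ Fx x ≤ D x

variable {H : Type*} [Group H] [Finite H] {p : ℕ} [hp : Fact p.Prime] {x : MulAut H}

theorem Ctx.star (h : Ctx p x) {N : Subgroup H} (hN : N.Normal) (hs : Stb x N)
    (hle : N ⊓ Fx x ≤ D x) : N = ⊥ := by
  by_contra hne
  refine h.nle fun c hc => ?_
  obtain ⟨d, hd, v, hv, rfl⟩ := h.ihq N hN hs hne c hc
  exact mul_mem hd (hle hv)

theorem Stb.surj (hx : x ^ p = 1) {K : Subgroup H} (hK : Stb x K) {k : H} (hk : k ∈ K) :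
    ∃ k' ∈ K, x k' = k :=
  ⟨(x ^ (p - 1)) k, hK.pow _ hk, by
    rw [← pow_succ_app, Nat.sub_add_cancel hp.out.one_le, hx]; rfl⟩

theorem Stb.cent (hx : x ^ p = 1) {K : Subgroup H} (hK : Stb x K) :
    Stb x (centralizer (K : Set H)) := by
  intro g hg
  rw [mem_centralizer_iff] at hg ⊢
  intro k hk
  obtain ⟨k', hk', rfl⟩ := hK.surj hx hk
  rw [← map_mul, ← map_mul, hg k' hk']

theorem pow_two_mul (hp2 : p ≠ 2) (hx : x ^ p = 1) : ∃ k, (x ^ 2) ^ k = x := by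
  obtain ⟨k, hk⟩ := hp.out.odd_of_ne_two hp2
  refine ⟨k + 1, ?_⟩
  rw [← pow_mul, show 2 * (k + 1) = p + 1 by omega, pow_succ, hx, one_mul]

theorem Ctx.uniq (h : Ctx p x) {B : Subgroup H} (hB : B.Normal) (hs : Stb x B)
    (hc : ∀ a ∈ B, ∀ b ∈ B, a * b = b * a) (hnc : ⁅B, (⊤ : Subgroup H)⁆ ≠ ⊥) :
    ∃ S' : Subgroup H, S' ≠ ⊤ ∧ Fx x ≤ S' ∧ ∀ K, Stb x K → K ≠ ⊤ → B ≤ K → K ≤ S' := by
  have hn : ∀ a ∈ D x ⊓ B, ∀ b ∈ Cm x B, a * b * a⁻¹ ∈ Cm x B :=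
    fun a ha b hb => conj_mem_Cm ha.2 hb
  set T : Subgroup H := (D x ⊓ B) ⊔ Cm x B with hT
  have TB : T ≤ B := sup_le inf_le_right (Cm_le_self hs)
  have TD : T ⊓ Fx x ≤ D x := by
    rintro t ⟨ht, htf⟩
    obtain ⟨d, hd, n, hn', rfl⟩ := (mem_sup_iff hn).1 ht
    have : n ∈ Fx x := (mul_mem_cancel_left (D_le_Fx hd.1)).1 htf
    rw [abel_inf h.cop h.hx hs hc hn' this, mul_one]
    exact hd.1
  have Ts : Stb x T := (stb_of_le_Fx (inf_le_left.trans D_le_Fx)).sup (stb_Cm B)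
  have Tc : ∀ c ∈ Fx x, ∀ t ∈ T, c * t * c⁻¹ ∈ T := by
    intro c hc' t ht
    obtain ⟨d, hd, n, hn', rfl⟩ := (mem_sup_iff hn).1 ht
    refine (mem_sup_iff hn).2 ⟨c * d * c⁻¹, ⟨conj_mem_D hc' hd.1, hB.conj_mem _ hd.2 _⟩,
      c * n * c⁻¹, conj_mem_Cm_fix hc' hn', by group⟩
  let S : Subgroup H :=
    { carrier := {g | ∀ b ∈ B, ⁅b, g⁆ ∈ T}
      one_mem' := fun b _ => by simp
      mul_mem' := by
        intro g1 g2 h1 h2 b hb
        have e : ⁅b, g1 * g2⁆ = ⁅b, g1⁆ * ((⁅⁅b, g2⁆, g1⁆)⁻¹ * ⁅b, g2⁆) := by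
          simp only [commutatorElement_def]; group
        rw [e]
        exact mul_mem (h1 b hb) (mul_mem (inv_mem (h1 _ (TB (h2 b hb)))) (h2 b hb))
      inv_mem' := by
        intro g h1 b hb
        have e : ⁅b, g⁻¹⁆ = (⁅g⁻¹ * b * g⁻¹⁻¹, g⁆)⁻¹ := by
          simp only [commutatorElement_def]; group
        rw [e]
        exact inv_mem (h1 _ (hB.conj_mem _ hb _)) }
  have Ss : Stb x S := by
    intro g hg b hb
    obtain ⟨b', hb', rfl⟩ := hs.surj h.hx hb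
    rw [← map_commutatorElement]
    exact Ts _ (hg b' hb')
  have Sc : ∀ c ∈ Fx x, ∀ s ∈ S, c * s * c⁻¹ ∈ S := by
    intro c hc' s hs' b hb
    have e : ⁅b, c * s * c⁻¹⁆ = c * ⁅c⁻¹ * b * c⁻¹⁻¹, s⁆ * c⁻¹ := by
      simp only [commutatorElement_def]; group
    rw [e]
    exact Tc c hc' _ (hs' _ (hB.conj_mem _ hb _))
  have SK : ∀ K, Stb x K → K ≠ ⊤ → B ≤ K → Cm x K ≤ S := by
    intro K hK hKt hBK g hg b hb
    have h1 : ⁅b, g⁆ ∈ Cm x K ⊓ B := by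
      refine ⟨?_, ?_⟩
      · exact Subgroup.mul_mem _ (conj_mem_Cm (hBK hb) hg) (Subgroup.inv_mem _ hg)
      · have : ⁅b, g⁆ = b * (g * b⁻¹ * g⁻¹) := by simp only [commutatorElement_def]; group
        rw [this]
        exact mul_mem hb (hB.conj_mem _ (inv_mem hb) _)
    obtain ⟨c, hc', n, hn', e⟩ := decomp h.cop h.hx ((stb_Cm K).inf hs) h1
    rw [e]
    exact (mem_sup_iff hn).2 ⟨c, ⟨h.ihs K hK hKt ⟨hc'.1.1, hc'.2⟩, hc'.1.2⟩, n,
      Cm_mono inf_le_right hn', rfl⟩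
  refine ⟨Fx x ⊔ S, fun htop => hnc ?_, le_sup_left, fun K hK hKt hBK k hk => ?_⟩
  · have hS : Cm x ⊤ ≤ S := by
      refine Cm_le fun g _ => L_le fun i => ?_
      obtain ⟨c, hc', s, hs', rfl⟩ := (mem_sup_iff Sc).1 (htop ▸ mem_top g)
      have e : (c * s)⁻¹ * (x ^ i) (c * s) = s⁻¹ * (x ^ i) s := by
        rw [map_mul, pow_fix hc']; group
      rw [e]
      exact mul_mem (inv_mem hs') (Ss.pow i hs')
    rw [h.top] at hS
    have hle : ⁅B, (⊤ : Subgroup H)⁆ ≤ T := commutator_le.2 fun b hb g hg => hS hg b hb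
    exact h.star inferInstance (hs.commutator stb_top) ((inf_le_inf_right _ hle).trans TD)
  · obtain ⟨c, hc', n, hn', rfl⟩ := decomp h.cop h.hx hK hk
    exact (mem_sup_iff Sc).2 ⟨c, hc'.2, n, SK K hK hKt hBK hn', rfl⟩

theorem Ctx.sylow (h : Ctx p x) {B S' : Subgroup H} (hs : Stb x B) (hS : S' ≠ ⊤)
    (hK : ∀ K, Stb x K → K ≠ ⊤ → B ≤ K → K ≤ S') :
    ∃ r, ∃ _ : Fact r.Prime, ∃ R : Sylow r H, Stb x (R : Subgroup H) ∧ B ⊔ R = ⊤ := by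
  have h1 : S'.index ≠ 1 := by rwa [Ne, index_eq_one]
  obtain ⟨r, hr, hd⟩ := Nat.exists_prime_and_dvd h1
  have := Fact.mk hr
  obtain ⟨R, hR⟩ := exists_sylow h.cop h.hx r
  refine ⟨r, inferInstance, R, hR, ?_⟩
  by_contra hne
  have := le_sup_right.trans (hK _ (hs.sup hR) hne le_sup_left)
  exact R.not_dvd_index (hd.trans (index_dvd_of_le this))

end Cfsg.Agent.FpC
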