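import Cfsg.Agent.FpC.C

set_option autoImplicit false
set_option linter.unusedSectionVars false

namespace Cfsg.Agent.FpC

open Subgroup
open scoped commutatorElement

/-- `n`-torsion of a commutative subgroup -/
def Tor {H : Type*} [Group H] (V : Subgroup H) (hc : ∀ a ∈ V, ∀ b ∈ V, a * b = b * a) (n : ℕ) :
    Subgroup H where
  carrier := {w | w ∈ V ∧ w ^ n = 1}
  one_mem' := ⟨one_mem _, one_pow _⟩
  mul_mem' := by
    rintro a b ⟨ha, ha'⟩ ⟨hb, hb'⟩
    exact ⟨mul_mem ha hb, by rw [(show Commute a b from hc a ha b hb).mul_pow, ha', hb', one_mul]⟩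
  inv_mem' := by
    rintro a ⟨ha, ha'⟩
    exact ⟨inv_mem ha, by rw [inv_pow, ha', inv_one]⟩

theorem Tor_normal {H : Type*} [Group H] {V : Subgroup H} (hV : V.Normal)
    (hc : ∀ a ∈ V, ∀ b ∈ V, a * b = b * a) (n : ℕ) : (Tor V hc n).Normal :=
  ⟨fun a ha g => ⟨hV.conj_mem _ ha.1 g, by rw [conj_pow, ha.2]; group⟩⟩

theorem Tor_stb {H : Type*} [Group H] {V : Subgroup H} {x : MulAut H} (hV : Stb x V)
    (hc : ∀ a ∈ V, ∀ b ∈ V, a * b = b * a) (n : ℕ) : Stb x (Tor V hc n) :=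
  fun a ha => ⟨hV a ha.1, by rw [← map_pow, ha.2, map_one]⟩

theorem bij_of_fpf {R : Type*} [Group R] [Finite R] (y : R →* R) (h : ∀ n, y n = n → n = 1) :
    Function.Bijective fun n => n * y n⁻¹ := by
  refine Finite.injective_iff_bijective.1 fun n n' e => ?_
  have e' : n * (y n)⁻¹ = n' * (y n')⁻¹ := by simpa using e
  have : y (n'⁻¹ * n) = n'⁻¹ * n := by
    rw [map_mul, map_inv]
    calc (y n')⁻¹ * y n = n'⁻¹ * (n' * (y n')⁻¹) * y n := by group
      _ = _ := by rw [← e']; group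
  exact (inv_mul_eq_one.1 (h _ this)).symm

theorem L_mul_le {H : Type*} [Group H] {x : MulAut H} {V : Subgroup H} (hs : Stb x V) (g : H)
    {v : H} (hv : v ∈ V) : L x (g * v) ≤ V ⊔ L x g := by
  refine L_le fun i => ?_
  have e : (g * v)⁻¹ * (x ^ i) (g * v) = v⁻¹ * (g⁻¹ * (x ^ i) g) * (x ^ i) v := by
    rw [map_mul]; group
  rw [e]
  exact mul_mem (mul_mem ((le_sup_left : V ≤ V ⊔ L x g) (inv_mem hv))
    ((le_sup_right : L x g ≤ V ⊔ L x g) (gen_mem g i))) ((le_sup_left : V ≤ V ⊔ L x g) (hs.pow i hv))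

variable {H : Type*} [Group H] [Finite H] {p : ℕ} [hp : Fact p.Prime] {x : MulAut H}

/-- The Frobenius-like final configuration of the non-central case. -/
theorem frob_case (hp2 : p ≠ 2) (hx : x ^ p = 1) {V R : Subgroup H} [hV : V.Normal] (hs : Stb x V)
    (hR : Stb x R) (hc : ∀ a ∈ V, ∀ b ∈ V, a * b = b * a) (hcR : ∀ a ∈ R, ∀ b ∈ R, a * b = b * a)
    (hfp : ∀ a ∈ R, x a = a → a = 1) (htr : V ⊓ centralizer (R : Set H) = ⊥) {l : H} (hl : l ∈ R)
    (hcomm : ∀ v ∈ V, Commute ((l * v)⁻¹ * x (l * v)) (x ((l * v)⁻¹ * x (l * v)))) {v : H}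
    (hv : v ∈ V) :
    (v⁻¹ * (x (l⁻¹ * x l) * v * (x (l⁻¹ * x l))⁻¹)) ^ Nat.card R = 1 := by
  let : CommGroup V := { (inferInstance : Group V) with
    mul_comm := fun a b => Subtype.ext (hc _ a.2 _ b.2) }
  let : CommGroup R := { (inferInstance : Group R) with
    mul_comm := fun a b => Subtype.ext (hcR _ a.2 _ b.2) }
  have := Fintype.ofFinite R
  let ρ : R →* MulAut V := (MulAut.conjNormal (H := V)).comp R.subtype
  have hρ : ∀ (a : R) (w : V), ((ρ a w : V) : H) = a * w * (a : H)⁻¹ := fun a w => rfl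
  let X : V →* V := ((x : H →* H).comp V.subtype).codRestrict V fun w => hs _ w.2
  let y : R →* R := ((x : H →* H).comp R.subtype).codRestrict R fun w => hR _ w.2
  have hXc : ∀ w : V, ((X w : V) : H) = x w := fun _ => rfl
  have hyc : ∀ w : R, ((y w : R) : H) = x w := fun _ => rfl
  have hm : l⁻¹ * x l ∈ R := mul_mem (inv_mem hl) (hR _ hl)
  obtain ⟨k2, hk2⟩ := pow_two_mul hp2 hx
  have := avg ρ X y
    (fun a w => Subtype.ext (by rw [hXc, hρ, hρ, hXc, hyc, map_mul, map_mul, map_inv]))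
    (fun w hw => by
      have : (w : H) ∈ V ⊓ centralizer (R : Set H) := ⟨w.2, fun a ha => by
        have := congrArg Subtype.val (hw ⟨a, ha⟩)
        rw [hρ] at this
        exact mul_inv_eq_iff_eq_mul.1 this⟩
      rw [htr] at this
      exact Subtype.ext this)
    (bij_of_fpf y fun n hn => Subtype.ext (hfp _ n.2 (congrArg Subtype.val hn)))
    (bij_of_fpf (y.comp y) fun n hn => Subtype.ext (hfp _ n.2 (by
      have h1 : (x ^ 2) (n : H) = n := by
        rw [pow_two]; exact congrArg Subtype.val hn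
      have := pow_fix h1 k2
      rwa [hk2] at this)))
    ⟨(l⁻¹ * x l) * x (l⁻¹ * x l), mul_mem hm (hR _ hm)⟩ ⟨x (l⁻¹ * x l), hR _ hm⟩
    (fun w => Subtype.ext (by
      simp only [Subgroup.coe_mul, Subgroup.coe_inv, hρ, hXc]
      have h1 := (hcomm w w.2).eq
      have h2 := hcR _ hm _ (hR _ hm)
      have e0 : (l * w)⁻¹ * x (l * w) = (w : H)⁻¹ * (l⁻¹ * x l) * x w := by
        rw [map_mul]; group
      rw [e0, map_mul, map_mul, map_inv] at h1
      generalize l⁻¹ * x l = m at *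
      generalize x m = m' at *
      generalize x (x w) = w2 at *
      generalize x w = w1 at *
      calc (w : H)⁻¹ * (m * m' * w2 * (m * m')⁻¹)
          = ((w : H)⁻¹ * m * w1 * (w1⁻¹ * m' * w2)) * (m * m')⁻¹ := by group
        _ = (w1⁻¹ * m' * w2 * ((w : H)⁻¹ * m * w1)) * (m * m')⁻¹ := by rw [h1]
        _ = w1⁻¹ * (m' * w2 * m'⁻¹) * (m' * w * m'⁻¹)⁻¹ * ((m' * m) * w1 * (m * m')⁻¹) := by group
        _ = _ := by rw [← h2])) ⟨v, hv⟩
  rw [Nat.card_eq_fintype_card]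
  exact congrArg Subtype.val this

theorem Ctx.sylow' (h : Ctx p x) {B S' : Subgroup H} (hs : Stb x B) (hS : S' ≠ ⊤)
    (hK : ∀ K, Stb x K → K ≠ ⊤ → B ≤ K → K ≤ S') :
    ∃ r, ∃ _ : Fact r.Prime, ∃ R : Subgroup H, Stb x R ∧ B ⊔ R = ⊤ ∧ IsPGroup r R ∧
      ∀ N : Subgroup H, N.Normal → IsPGroup r N → N ≤ R := by
  obtain ⟨r, _, R, hR, hVR⟩ := h.sylow hs hS hK
  exact ⟨r, inferInstance, R, hR, hVR, R.isPGroup', fun N _ hN => hN.le_sylow_of_normal R⟩

set_option maxHeartbeats 1000000 in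
theorem Ctx.central (h : Ctx p x) {V : Subgroup H} (hV : V.Normal) (hs : Stb x V) (hne : V ≠ ⊥)
    (hmin : ∀ N : Subgroup H, N.Normal → Stb x N → N ≤ V → N = ⊥ ∨ N = V)
    (hc : ∀ a ∈ V, ∀ b ∈ V, a * b = b * a) : ⁅V, (⊤ : Subgroup H)⁆ = ⊥ := by
  by_contra hnc
  have hVV : ⁅V, (⊤ : Subgroup H)⁆ = V :=
    (hmin _ inferInstance (hs.commutator stb_top) (commutator_le_left _ _)).resolve_left hnc
  have hVD : ¬ V ⊓ Fx x ≤ D x := fun hle => hne (h.star hV hs hle)
  obtain ⟨S', hS't, hFS, hK⟩ := h.uniq hV hs hc hnc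
  obtain ⟨r, _, R, hR, hVR, hRp, hRm⟩ := h.sylow' hs hS't hK
  have hVt : V ≠ ⊤ := by
    intro e
    apply hnc
    rw [eq_bot_iff, commutator_le]
    intro a ha b _
    exact commutatorElement_eq_one_iff_mul_comm.2 (hc a ha b (e ▸ mem_top b))
  have hRt : R ≠ ⊤ := by
    intro e
    have h1 : IsPGroup r (⊤ : Subgroup H) := e ▸ hRp
    have := (h1.of_equiv topEquiv).isNilpotent
    exact hne (nil_bot hVV.ge)
  have cV : ∀ {N : Subgroup H}, N ≤ V → ∀ a ∈ V, ∀ n ∈ N, a * n * a⁻¹ ∈ N := by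
    intro N hN a ha n hn
    rw [hc a ha n (hN hn), mul_inv_cancel_right]; exact hn
  have hi : V ⊓ R = ⊥ := by
    refine (hmin _ (normal_of_gen hVR (cV inf_le_left) fun a ha n hn =>
      mem_inf.2 ⟨hV.conj_mem _ hn.1 _, mul_mem (mul_mem ha hn.2) (inv_mem ha)⟩) (hs.inf hR)
      inf_le_left).resolve_right fun e => hRt ?_
    rw [← hVR, eq_comm, sup_eq_right, ← e]
    exact inf_le_right
  have dec : ∀ {A : Subgroup H}, V ⊔ A = ⊤ → ∀ g : H, ∃ a ∈ A, ∃ v ∈ V, g = a * v := by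
    intro A hA g
    refine (mem_sup_iff fun a _ b hb => hV.conj_mem b hb a).1 ?_
    rw [sup_comm, hA]; exact mem_top g
  have mod : ∀ {A : Subgroup H}, V ⊔ A = ⊤ → A ≤ R → R ≤ A := by
    intro A hA hAR c hc'
    obtain ⟨a, ha, v, hv, rfl⟩ := dec hA c
    have : v ∈ V ⊓ R := ⟨hv, (mul_mem_cancel_left (hAR ha)).1 hc'⟩
    rw [hi, mem_bot] at this
    rw [this, mul_one]; exact ha
  have hVS : V ≤ S' := hK V hs hVt le_rfl
  have hCm : V ⊔ Cm x R = ⊤ := by
    by_contra hne'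
    have h1 := le_sup_right.trans (hK _ (hs.sup (stb_Cm R)) hne' le_sup_left)
    apply hS't
    rw [eq_top_iff, ← hVR]
    refine sup_le hVS fun k hk => ?_
    obtain ⟨c, hc', n, hn, rfl⟩ := decomp h.cop h.hx hR hk
    exact mul_mem (hFS hc'.2) (h1 hn)
  have RCm : R ≤ Cm x R := mod hCm (Cm_le_self hR)
  have RD : R ⊓ Fx x ≤ D x := (inf_le_inf_right _ RCm).trans (h.ihs _ hR hRt)
  have faith : R ⊓ centralizer (V : Set H) = ⊥ := by
    refine h.star (normal_of_gen hVR (fun a ha n hn => ?_) fun a ha n hn =>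
      mem_inf.2 ⟨mul_mem (mul_mem ha hn.1) (inv_mem ha), Normal.conj_mem inferInstance _ hn.2 _⟩)
      (hR.inf (hs.cent h.hx)) ((inf_le_inf_right _ inf_le_left).trans RD)
    rw [hn.2 a ha, mul_inv_cancel_right]; exact hn
  set Z : Subgroup H := R ⊓ centralizer (R : Set H) with hZ
  have Zs : Stb x Z := hR.inf (hR.cent h.hx)
  have hZne : ∃ z ∈ Z, z ≠ 1 := by
    have : Nontrivial R := by
      rw [nontrivial_iff_ne_bot]
      intro e
      rw [e, sup_bot_eq] at hVR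
      exact hVt hVR
    obtain ⟨z, hz⟩ := @exists_ne _ hRp.center_nontrivial 1
    refine ⟨z.1.1, ⟨z.1.2, fun a ha => ?_⟩, fun e => hz (Subtype.ext (Subtype.ext e))⟩
    exact congrArg Subtype.val ((mem_center_iff.1 z.2) ⟨a, ha⟩)
  have key : ∀ Z0 : Subgroup H, Z0 ≤ Z → Stb x Z0 → Z0 ≠ ⊥ → V ⊓ centralizer (Z0 : Set H) = ⊥ := by
    intro Z0 hZ0 hs0 hne0
    refine (hmin _ (normal_of_gen hVR (cV inf_le_left) fun a ha n hn =>
      ⟨hV.conj_mem _ hn.1 _, fun z hz => ?_⟩) (hs.inf (hs0.cent h.hx))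
      inf_le_left).resolve_right fun e => hne0 ?_
    · have h1 := (hZ0 hz).2 a ha
      have h2 := hn.2 z hz
      calc z * (a * n * a⁻¹) = (z * a) * n * a⁻¹ := by group
        _ = a * (z * n) * a⁻¹ := by rw [← h1]; group
        _ = a * n * a⁻¹ * (a * z) * a⁻¹ := by rw [h2]; group
        _ = _ := by rw [h1]; group
    · rw [eq_bot_iff, ← faith]
      intro z hz
      refine ⟨(hZ0 hz).1, fun v hv => ?_⟩
      have : v ∈ V ⊓ centralizer (Z0 : Set H) := e.symm ▸ hv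
      exact (this.2 z hz).symm
  by_cases hZ1 : Cm x Z = ⊥
  · obtain ⟨z, hz, hz1⟩ := hZne
    have zf : z ∈ Fx x := by
      have : z⁻¹ * x z ∈ Cm x Z := L_le_Cm hz (gen_mem1 z)
      rw [hZ1, mem_bot] at this
      exact (inv_mul_eq_one.1 this).symm
    have zD : z ∈ D x := RD ⟨hz.1, zf⟩
    have k0 := key (zpowers z) ((zpowers_le).2 hz) (stb_of_le_Fx ((zpowers_le).2 zf))
      (by rwa [Ne, zpowers_eq_bot])
    let φ : (V ⊓ Fx x : Subgroup H) → (V ⊓ Fx x : Subgroup H) := fun w =>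
      ⟨w * (z * (w : H)⁻¹ * z⁻¹), mul_mem w.2 (mem_inf.2 ⟨hV.conj_mem _ (inv_mem (mem_inf.1 w.2).1) _,
        mul_mem (mul_mem zf (inv_mem (mem_inf.1 w.2).2)) (inv_mem zf)⟩)⟩
    have inj : Function.Injective φ := by
      intro w w' e
      have e' : (w : H) * (z * (w : H)⁻¹ * z⁻¹) = w' * (z * (w' : H)⁻¹ * z⁻¹) :=
        congrArg Subtype.val e
      have : (w' : H)⁻¹ * w ∈ V ⊓ centralizer ((zpowers z : Subgroup H) : Set H) := by
        refine mem_inf.2 ⟨mul_mem (inv_mem (mem_inf.1 w'.2).1) (mem_inf.1 w.2).1, ?_⟩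
        rintro _ ⟨i, rfl⟩
        refine (Commute.zpow_left ?_ i).eq
        change z * ((w' : H)⁻¹ * w) = (w' : H)⁻¹ * w * z
        calc z * ((w' : H)⁻¹ * w) = (w' : H)⁻¹ * (w' * (z * (w' : H)⁻¹ * z⁻¹)) * z * w := by group
          _ = _ := by rw [← e']; group
      rw [k0, mem_bot] at this
      exact Subtype.ext (inv_mul_eq_one.1 this).symm
    refine hVD fun w hw => ?_
    obtain ⟨w', e⟩ := Finite.injective_iff_surjective.1 inj ⟨w, hw⟩
    have e' : (w' : H) * (z * (w' : H)⁻¹ * z⁻¹) = w := congrArg Subtype.val e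
    have : w = ((w' : H) * z * (w' : H)⁻¹) * z⁻¹ := by rw [← e']; group
    rw [this]
    exact mul_mem (conj_mem_D w'.2.2 zD) (inv_mem zD)
  · set Z1 := Cm x Z with hZ1d
    have Z1Z : Z1 ≤ Z := Cm_le_self Zs
    have hN : ⁅V, Z1⁆ = V := by
      have hle : ⁅V, Z1⁆ ≤ V := commutator_le_left _ _
      refine (hmin _ (normal_of_gen hVR (cV hle) fun a ha n hn => ?_) (hs.commutator (stb_Cm Z))
        hle).resolve_left fun e => hZ1 ?_
      · have : ⁅V, Z1⁆ ≤ (⁅V, Z1⁆).comap (MulAut.conj a : H →* H) := by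
          refine commutator_le.2 fun v hv z hz => ?_
          change a * ⁅v, z⁆ * a⁻¹ ∈ ⁅V, Z1⁆
          have h1 := (Z1Z hz).2 a ha
          have e : a * ⁅v, z⁆ * a⁻¹ = ⁅a * v * a⁻¹, z⁆ := by
            simp only [commutatorElement_def]
            calc a * (v * z * v⁻¹ * z⁻¹) * a⁻¹ = a * v * a⁻¹ * (a * z) * v⁻¹ * (a * z)⁻¹ := by group
              _ = a * v * a⁻¹ * (z * a) * v⁻¹ * (z * a)⁻¹ := by rw [h1]
              _ = _ := by group
          rw [e]
          exact commutator_mem_commutator (hV.conj_mem _ hv _) hz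
        exact this hn
      · rw [eq_bot_iff, ← faith]
        intro z hz
        refine ⟨(Z1Z hz).1, fun v hv => ?_⟩
        have : ⁅v, z⁆ ∈ ⁅V, Z1⁆ := commutator_mem_commutator hv hz
        rw [e, mem_bot] at this
        exact commutatorElement_eq_one_iff_mul_comm.1 this
    by_cases hKt : V ⊔ Z1 = ⊤
    · have RZ1 : R ≤ Z1 := mod hKt (Z1Z.trans inf_le_left)
      have hcR : ∀ a ∈ R, ∀ b ∈ R, a * b = b * a :=
        fun a ha b hb => (Z1Z (RZ1 hb)).2 a ha
      have hfp : ∀ a ∈ R, x a = a → a = 1 := fun a ha e =>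
        abel_inf h.cop h.hx hR hcR (RCm ha) e
      have htr : V ⊓ centralizer (R : Set H) = ⊥ :=
        key R (RZ1.trans Z1Z) hR fun e => hVt (by rwa [e, sup_bot_eq] at hVR)
      obtain ⟨h0, hh0⟩ : ∃ h0, ¬ L x h0 ≤ S' := by
        by_contra! hall
        exact hS't (eq_top_iff.2 (h.top ▸ Cm_le fun k _ => hall k))
      obtain ⟨l, hl, v0, hv0, rfl⟩ := dec hVR h0
      have ht : ∀ v ∈ V, V ⊔ L x (l * v) = ⊤ := by
        intro v hv
        by_contra hne'
        apply hh0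
        have e : l * v0 = (l * v) * (v⁻¹ * v0) := by group
        rw [e]
        exact (L_mul_le hs _ (mul_mem (inv_mem hv) hv0)).trans
          (hK _ (hs.sup (stb_L _)) hne' le_sup_left)
      have hb : ∀ v ∈ V, V ⊓ L x (l * v) = ⊥ := by
        intro v hv
        refine (hmin _ (normal_of_gen (ht v hv) (cV inf_le_left) fun a ha n hn =>
          mem_inf.2 ⟨hV.conj_mem _ hn.1 _, mul_mem (mul_mem ha hn.2) (inv_mem ha)⟩) (hs.inf (stb_L _))
          inf_le_left).resolve_right fun e => hVD ?_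
        refine le_trans (inf_le_inf_right _ ?_) (L_inf_le_D (l * v))
        rw [← e]; exact inf_le_right
      have hcm : ∀ g1 g2 : H, ⁅g1, g2⁆ ∈ V := by
        intro g1 g2
        obtain ⟨a1, ha1, v1, hv1, rfl⟩ := dec hVR g1
        obtain ⟨a2, ha2, v2, hv2, rfl⟩ := dec hVR g2
        rw [← QuotientGroup.eq_one_iff, ← QuotientGroup.mk'_apply, map_commutatorElement,
          commutatorElement_eq_one_iff_mul_comm]
        simp only [map_mul, QuotientGroup.mk'_apply, (QuotientGroup.eq_one_iff _).2 hv1,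
          (QuotientGroup.eq_one_iff _).2 hv2, mul_one]
        rw [← QuotientGroup.mk_mul, hcR a1 ha1 a2 ha2, QuotientGroup.mk_mul]
      have hfin := fun v (hv : v ∈ V) => frob_case h.hp2 h.hx hs hR hc hcR hfp htr hl
        (fun v hv => by
          have h1 : ⁅(l * v)⁻¹ * x (l * v), x ((l * v)⁻¹ * x (l * v))⁆ ∈ V ⊓ L x (l * v) := by
            refine ⟨hcm _ _, ?_⟩
            have a1 := gen_mem1 (x := x) (l * v)
            have a2 := stb_L _ _ a1
            exact Subgroup.mul_mem _ (Subgroup.mul_mem _ (Subgroup.mul_mem _ a1 a2)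
              (Subgroup.inv_mem _ a1)) (Subgroup.inv_mem _ a2)
          rw [hb v hv, mem_bot] at h1
          exact commutatorElement_eq_one_iff_mul_comm.1 h1) hv
      have hTor : Tor V hc (Nat.card R) = ⊥ := by
        refine (hmin _ (Tor_normal hV hc _) (Tor_stb hs hc _) fun a ha => ha.1).resolve_right
          fun e => hne ?_
        obtain ⟨k, hk⟩ := hRp.exists_card_eq
        have hpV : IsPGroup r V := fun w => ⟨k, Subtype.ext (by
          have : (w : H) ∈ Tor V hc (Nat.card R) := e.symm ▸ w.2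
          rw [← hk]; exact this.2)⟩
        rw [← hi, left_eq_inf]
        exact hRm V hV hpV
      have hm : l⁻¹ * x l ∈ R := mul_mem (inv_mem hl) (hR _ hl)
      have h1 : x (l⁻¹ * x l) ∈ R ⊓ centralizer (V : Set H) := by
        refine ⟨hR _ hm, fun v hv => ?_⟩
        have : v⁻¹ * (x (l⁻¹ * x l) * v * (x (l⁻¹ * x l))⁻¹) ∈
            Tor V hc (Nat.card R) :=
          ⟨mul_mem (inv_mem hv) (hV.conj_mem _ hv _), hfin v hv⟩
        rw [hTor, mem_bot, inv_mul_eq_one] at this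
        exact (eq_mul_inv_iff_mul_eq.1 this)
      rw [faith, mem_bot, map_eq_one_iff x x.injective, inv_mul_eq_one] at h1
      have h2 := ht 1 (one_mem _)
      have h3 : L x (l * 1) = ⊥ := by
        rw [mul_one, eq_bot_iff]
        exact L_le fun i => by rw [pow_fix h1.symm]; simp
      rw [h3, sup_bot_eq] at h2
      exact hVt h2
    · refine hVD (le_trans (inf_le_inf_right _ ?_) (h.ihs _ (hs.sup (stb_Cm Z)) hKt))
      rw [← hN]
      refine commutator_le.2 fun v hv z hz => ?_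
      have hz' : z ∈ Cm x (⁅V, Z1⁆ ⊔ Z1) := Cm_mono le_sup_right (Cm_le_Cm_Cm h.cop h.hx Z hz)
      exact Subgroup.mul_mem _ (conj_mem_Cm ((le_sup_left : _ ≤ ⁅V, Z1⁆ ⊔ Z1) (hN.symm ▸ hv)) hz')
        (Subgroup.inv_mem _ hz')

end Cfsg.Agent.FpC
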