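import Cfsg.Agent.FpC.D

set_option autoImplicit false
set_option linter.unusedSectionVars false

namespace Cfsg.Agent.FpC

open Subgroup
open scoped commutatorElement

theorem exists_min {H : Type*} [Group H] [Finite H] (P : Subgroup H → Prop) {N : Subgroup H}
    (hP : P N) : ∃ M, M ≤ N ∧ P M ∧ ∀ M', P M' → M' ≤ M → M' = M := by
  obtain ⟨M, hM, hmin⟩ := (wellFounded_lt (α := Subgroup H)).has_min {M | M ≤ N ∧ P M}
    ⟨N, le_rfl, hP⟩
  refine ⟨M, hM.1, hM.2, fun M' h1 h2 => ?_⟩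
  by_contra hne
  exact hmin M' ⟨h2.trans hM.1, h1⟩ (lt_of_le_of_ne h2 hne)

theorem tr_case {H : Type*} [Group H] [Finite H] {B R : Subgroup H} [hB : B.Normal]
    (hc : ∀ a ∈ B, ∀ b ∈ B, a * b = b * a) (hBR : B ⊔ R = ⊤) {v : H}
    (hv : v ∈ ⁅B, (⊤ : Subgroup H)⁆) (hcen : ∀ g, g * v = v * g) : v ^ Nat.card R = 1 := by
  let : CommGroup B := { (inferInstance : Group B) with
    mul_comm := fun a b => Subtype.ext (hc _ a.2 _ b.2) }
  have := Fintype.ofFinite R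
  let ρ : R →* MulAut B := (MulAut.conjNormal (H := B)).comp R.subtype
  have hρ : ∀ (a : R) (w : B), ((ρ a w : B) : H) = a * w * (a : H)⁻¹ := fun a w => rfl
  let tr : B →* B := MonoidHom.mk' (fun w => ∏ a : R, ρ a w) fun a b => by
    simp only [map_mul, Finset.prod_mul_distrib]
  have htr : ∀ w, tr w = ∏ a : R, ρ a w := fun _ => rfl
  have hle : ⁅B, (⊤ : Subgroup H)⁆ ≤ tr.ker.map B.subtype := by
    refine commutator_le.2 fun b hb g _ => ?_
    obtain ⟨l, hl, b', hb', rfl⟩ := (mem_sup_iff fun a _ b hb => hB.conj_mem b hb a).1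
      (show g ∈ R ⊔ B by rw [sup_comm, hBR]; exact mem_top g)
    refine ⟨⟨b, hb⟩ * (ρ ⟨l, hl⟩ ⟨b, hb⟩)⁻¹,
      (MonoidHom.mem_ker).2 ((htr _).trans (tr_comm ρ ⟨b, hb⟩ ⟨l, hl⟩)), ?_⟩
    change b * (l * b * l⁻¹)⁻¹ = _
    have := hc _ hb' _ (inv_mem hb)
    calc b * (l * b * l⁻¹)⁻¹ = b * l * (b⁻¹ * b') * b'⁻¹ * l⁻¹ := by group
      _ = _ := by rw [← this, commutatorElement_def]; group
  obtain ⟨w, hw, rfl⟩ := hle hv
  have h1 : ∏ a : R, ρ a w = 1 := (htr w).symm.trans ((MonoidHom.mem_ker).1 hw)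
  have h2 : ∀ a : R, ρ a w = w := fun a => Subtype.ext (by
    rw [hρ]; exact mul_inv_eq_iff_eq_mul.2 (hcen a))
  simp only [h2, Finset.prod_const, Finset.card_univ] at h1
  rw [Nat.card_eq_fintype_card]
  exact congrArg Subtype.val h1

variable {H : Type*} [Group H] [Finite H] {p : ℕ} [hp : Fact p.Prime] {x : MulAut H}

theorem Stb.map_eq (hx : x ^ p = 1) {K : Subgroup H} (hK : Stb x K) :
    K.map (x : H →* H) = K := by
  apply le_antisymm
  · rintro _ ⟨k, hk, rfl⟩; exact hK k hk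
  · intro k hk
    obtain ⟨k', hk', e⟩ := hK.surj hx hk
    exact ⟨k', hk', e⟩

theorem exists_qAut (hx : x ^ p = 1) {V : Subgroup H} [V.Normal] (hs : Stb x V) :
    ∃ y : MulAut (H ⧸ V), y ^ p = 1 ∧ ∀ h, QuotientGroup.mk' V (x h) = y (QuotientGroup.mk' V h) := by
  let y : MulAut (H ⧸ V) := QuotientGroup.congr V V x (hs.map_eq hx)
  have hf : ∀ h, QuotientGroup.mk' V (x h) = y (QuotientGroup.mk' V h) := fun h => rfl
  refine ⟨y, ?_, hf⟩
  ext g
  obtain ⟨g, rfl⟩ := QuotientGroup.mk'_surjective V g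
  rw [← map_pow_app _ hf, hx]; rfl

theorem exists_sAut (hx : x ^ p = 1) {K : Subgroup H} (hs : Stb x K) :
    ∃ y : MulAut K, y ^ p = 1 ∧ ∀ h, K.subtype (y h) = x (K.subtype h) := by
  let y : MulAut K := (x.subgroupMap K).trans (MulEquiv.subgroupCongr (hs.map_eq hx))
  have hf : ∀ h, K.subtype (y h) = x (K.subtype h) := fun h => rfl
  refine ⟨y, ?_, hf⟩
  ext g
  have := map_pow_app _ hf p g
  rw [hx] at this
  exact this

theorem Cm_eq_bot {K : Subgroup H} (hK : K ≤ Fx x) : Cm x K = ⊥ :=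
  eq_bot_iff.2 (Cm_le fun k hk => L_le fun i => by rw [pow_fix (hK hk)]; simp)

theorem normal_of_cen {N : Subgroup H} (hN : ∀ n ∈ N, ∀ g, g * n = n * g) : N.Normal :=
  ⟨fun n hn g => by rw [hN n hn g, mul_inv_cancel_right]; exact hn⟩

theorem Ctx.minN [Group.IsSolvable H] (h : Ctx p x) {N : Subgroup H} (hN : N.Normal)
    (hs : Stb x N) (hne : N ≠ ⊥) :
    ∃ V ≤ N, V.Normal ∧ Stb x V ∧ V ≠ ⊥ ∧
      (∀ N : Subgroup H, N.Normal → Stb x N → N ≤ V → N = ⊥ ∨ N = V) ∧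
      (∀ v ∈ V, ∀ g, g * v = v * g) ∧ V ≤ Fx x := by
  obtain ⟨V, hVN, ⟨hV, hVs, hVne⟩, hm⟩ :=
    exists_min (fun M : Subgroup H => M.Normal ∧ Stb x M ∧ M ≠ ⊥) ⟨hN, hs, hne⟩
  have hmin : ∀ N : Subgroup H, N.Normal → Stb x N → N ≤ V → N = ⊥ ∨ N = V := by
    intro M h1 h2 h3
    by_cases e : M = ⊥
    · exact Or.inl e
    · exact Or.inr (hm M ⟨h1, h2, e⟩ h3)
  have hc : ∀ a ∈ V, ∀ b ∈ V, a * b = b * a := by
    have := (hmin _ inferInstance (hVs.commutator hVs) (commutator_le_left _ _)).resolve_right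
      (Group.IsSolvable.commutator_lt_of_ne_bot hVne).ne
    intro a ha b hb
    have h1 : ⁅a, b⁆ ∈ ⁅V, V⁆ := commutator_mem_commutator ha hb
    rw [this, mem_bot] at h1
    exact commutatorElement_eq_one_iff_mul_comm.1 h1
  have hcen : ∀ v ∈ V, ∀ g, g * v = v * g := by
    intro v hv g
    have h1 : ⁅v, g⁆ ∈ ⁅V, (⊤ : Subgroup H)⁆ := commutator_mem_commutator hv (mem_top g)
    rw [h.central hV hVs hVne hmin hc, mem_bot] at h1
    exact (commutatorElement_eq_one_iff_mul_comm.1 h1).symm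
  refine ⟨V, hVN, hV, hVs, hVne, hmin, hcen, ?_⟩
  rcases hmin (V ⊓ Fx x) (normal_of_cen fun n hn => hcen n hn.1) (stb_of_le_Fx inf_le_right)
    inf_le_left with e | e
  · exact absurd (h.star hV hVs (e ▸ bot_le)) hVne
  · rw [← e]; exact inf_le_right

/-- the final bilinear-form argument -/
theorem Ctx.form (h : Ctx p x) {V : Subgroup H} [hV : V.Normal] (hs : Stb x V)
    (hcen : ∀ v ∈ V, ∀ g, g * v = v * g) (hF : V ≤ Fx x) (LV : ∀ a, L x a ⊓ V = ⊥)
    (hcm : ∀ g1 g2 : H, ⁅g1, g2⁆ ∈ V) : V = ⊥ := by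
  obtain ⟨y, -, hf⟩ := exists_qAut h.hx hs
  have htop : Cm y ⊤ = ⊤ := by
    have := map_Cm _ hf ⊤
    rw [h.top, map_top_of_surjective _ (QuotientGroup.mk'_surjective V)] at this
    exact this.symm
  have h1 : ∀ u : H, u * x u = x u * u := by
    intro u
    obtain ⟨a, -, ha⟩ := exists_single (x := y) (A := ⊤) stb_top (fun a _ b _ => by
      obtain ⟨a, rfl⟩ := QuotientGroup.mk'_surjective V a
      obtain ⟨b, rfl⟩ := QuotientGroup.mk'_surjective V b
      rw [← commutatorElement_eq_one_iff_mul_comm, ← map_commutatorElement]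
      exact (QuotientGroup.eq_one_iff _).2 (hcm a b)) (c := QuotientGroup.mk' V u)
      (htop.symm ▸ mem_top _)
    obtain ⟨a, rfl⟩ := QuotientGroup.mk'_surjective V a
    rw [← hf, ← map_inv, ← map_mul, eq_comm, QuotientGroup.mk'_eq_mk'] at ha
    obtain ⟨v, hv, rfl⟩ := ha
    have a1 := gen_mem1 (x := x) a
    have a2 := stb_L _ _ a1
    have h1 : ⁅a⁻¹ * x a, x (a⁻¹ * x a)⁆ ∈ L x a ⊓ V :=
      mem_inf.2 ⟨mul_mem (mul_mem (mul_mem a1 a2) (inv_mem a1)) (inv_mem a2), hcm _ _⟩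
    rw [LV, mem_bot, commutatorElement_eq_one_iff_mul_comm] at h1
    rw [map_mul x _ v, mem_Fx.1 (hF hv)]
    generalize a⁻¹ * x a = u at *
    have c1 := hcen v hv (x u)
    have c2 := hcen v hv u
    calc u * v * (x u * v) = u * (v * x u) * v := by group
      _ = (u * x u) * v * v := by rw [← c1]; group
      _ = x u * (u * v) * v := by rw [h1]; group
      _ = x u * (v * u) * v := by rw [c2]
      _ = _ := by group
  have mulL : ∀ a b c : H, ⁅a * b, c⁆ = ⁅a, c⁆ * ⁅b, c⁆ := by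
    intro a b c
    calc ⁅a * b, c⁆ = (a * ⁅b, c⁆) * a⁻¹ * ⁅a, c⁆ := by simp only [commutatorElement_def]; group
      _ = ⁅b, c⁆ * ⁅a, c⁆ := by rw [hcen _ (hcm b c) a]; group
      _ = _ := hcen _ (hcm a c) _
  have mulR : ∀ a b c : H, ⁅a, b * c⁆ = ⁅a, b⁆ * ⁅a, c⁆ := by
    intro a b c
    calc ⁅a, b * c⁆ = ⁅a, b⁆ * ((b * ⁅a, c⁆) * b⁻¹) := by simp only [commutatorElement_def]; group
      _ = _ := by rw [hcen _ (hcm a c) b]; group
  have h2 : ∀ u w : H, ⁅u, x w⁆ = ⁅x u, w⁆ := by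
    intro u w
    have e := commutatorElement_eq_one_iff_mul_comm.2 (h1 (u * w))
    rw [map_mul, mulL, mulR, mulR, commutatorElement_eq_one_iff_mul_comm.2 (h1 u),
      commutatorElement_eq_one_iff_mul_comm.2 (h1 w), one_mul, mul_one, mul_eq_one_iff_eq_inv,
      commutatorElement_inv] at e
    exact e
  have h3 : ∀ w, w⁻¹ * (x ^ 2) w ∈ center H := by
    intro w
    rw [mem_center_iff]
    intro u
    rw [← commutatorElement_eq_one_iff_mul_comm, mulR, pow_two, MulAut.mul_apply, h2,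
      ← map_commutatorElement, mem_Fx.1 (hF (hcm u w)), ← mulR]
    simp
  obtain ⟨k, hk⟩ := pow_two_mul h.hp2 h.hx
  have h4 : ∀ w, w⁻¹ * x w ∈ center H := fun w => by
    have := pow_mem_of_one h3 k w
    rwa [hk] at this
  have h5 : Cm x ⊤ ≤ center H := Cm_le fun g _ => L_le fun i => pow_mem_of_one h4 i g
  rw [h.top] at h5
  rw [eq_bot_iff]
  intro v hv
  exact abel_inf h.cop h.hx stb_top (fun a _ b hb => mem_center_iff.1 (h5 hb) a)
    (h.top.symm ▸ mem_top v) (hF hv)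

end Cfsg.Agent.FpC
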